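import Cfsg.Agent.Lib.OmegaEight23.OrthNondeg
import Cfsg.Agent.Lib.Subspaces.Decomposition

/-!
Maximality in `Ω` of stabilisers of non-degenerate subspaces.
-/

set_option autoImplicit false

namespace Cfsg.Agent.Lib.OmegaEight23.OrthNondegMax

open Matrix Cfsg.Agent.Lib.Subspaces.Transvection Cfsg.Agent.Lib.Subspaces.FormVec
  Cfsg.Agent.Lib.Subspaces.OrthForm Cfsg.Agent.Lib.Subspaces.OmegaGL
  Cfsg.Agent.Lib.OmegaEight23.OrthNondeg

variable {ι : Type} [Fintype ι] [DecidableEq ι] {F : Type*} [Field F] [Finite F]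
  {Q : (ι → F) → F}

local notation "B" => QuadraticMap.polar Q

variable {hQ : Cfsg.Geo.IsNondegenerateQuadraticForm Q}

theorem stab_le_stab_perp {W : Submodule F (ι → F)} :
    Cfsg.Geo.subspaceStabilizer W ⊓ Cfsg.Geo.omegaGL Q ≤
      Cfsg.Geo.subspaceStabilizer (perpQ hQ W) ⊓ Cfsg.Geo.omegaGL Q := by
  rintro g ⟨hg, hgΩ⟩
  refine ⟨mem_subspaceStabilizer_iff.mpr fun u hu w hw => ?_, hgΩ⟩
  rw [← gl_mulVec_inv g w, B_map (omega_isometry hQ hgΩ)]
  exact hu _ (mem_subspaceStabilizer_iff.mp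
    ((Cfsg.Geo.subspaceStabilizer W).inv_mem hg) w hw)

theorem stab_perp_eq (W : Submodule F (ι → F)) :
    Cfsg.Geo.subspaceStabilizer (perpQ hQ W) ⊓ Cfsg.Geo.omegaGL Q =
      Cfsg.Geo.subspaceStabilizer W ⊓ Cfsg.Geo.omegaGL Q := by
  refine le_antisymm ?_ stab_le_stab_perp
  have h := stab_le_stab_perp (hQ := hQ) (W := perpQ hQ W)
  rwa [perpQ_perpQ] at h

theorem exists_omega_move (hQ : Cfsg.Geo.IsNondegenerateQuadraticForm Q)
    (hn : 5 ≤ Fintype.card ι) {W : Submodule F (ι → F)} (hW0 : W ≠ ⊥)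
    (hW : Cfsg.Geo.IsNondegenerateOn B W) (hU : 3 ≤ Module.finrank F (perpQ hQ W)) :
    ∃ g ∈ Cfsg.Geo.omegaGL Q, g ∉ Cfsg.Geo.subspaceStabilizer W := by
  obtain ⟨u, huU, hu0, huQ⟩ := exists_singular_in hQ hU
  obtain ⟨x, hx, hx0⟩ := Submodule.exists_mem_ne_zero_of_ne_bot hW0
  obtain ⟨-, w, hw, hxw⟩ := hW x hx hx0
  have hwu : B w u = 0 := by rw [B_comm]; exact huU w hw
  refine ⟨_, sieg_mem_omega hQ hn huQ hwu, fun hmem => ?_⟩
  have h := mem_subspaceStabilizer_iff.mp hmem x hx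
  have hxu : B x u = 0 := by rw [B_comm]; exact huU x hx
  rw [sieg_mulVec hQ huQ hwu, hxu, zero_smul, add_zero, mul_zero, sub_zero] at h
  have h2 : u ∈ W := by
    have := W.smul_mem (-(B x w))⁻¹ (W.sub_mem h hx)
    rwa [add_sub_cancel_left, smul_smul, inv_mul_cancel₀ (neg_ne_zero.mpr hxw), one_smul] at this
  obtain ⟨-, y, hy, hy'⟩ := hW u h2 hu0
  exact hy' (huU y hy)

theorem finrank_le_of_map {g : GL ι F} {U W : Submodule F (ι → F)}
    (h : ∀ u ∈ U, (g : Matrix ι ι F) *ᵥ u ∈ W) : Module.finrank F U ≤ Module.finrank F W :=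
  Cfsg.Agent.Lib.Subspaces.Decomposition.finrank_le_of_mapsTo h

/-- An isometry carrying `U` into a subspace of the same dimension makes the two isometric. -/
theorem isometric_of_map {g : GL ι F} {U W : Submodule F (ι → F)}
    (hiso : ∀ x, Q ((g : Matrix ι ι F) *ᵥ x) = Q x)
    (h : ∀ u ∈ U, (g : Matrix ι ι F) *ᵥ u ∈ W)
    (hd : Module.finrank F W ≤ Module.finrank F U) : Cfsg.Geo.AreIsometricFor Q U W := by
  let f : U →ₗ[F] W :=
    ((Matrix.mulVecLin (g : Matrix ι ι F)).comp U.subtype).codRestrict W fun u => h u u.2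
  have hinj : Function.Injective f := fun a b hab => Subtype.ext
    (gl_mulVec_injective g (congrArg (fun z : W => (z : ι → F)) hab))
  refine ⟨LinearMap.linearEquivOfInjective f hinj
    (le_antisymm (LinearMap.finrank_le_finrank_of_injective hinj) hd), fun w => ?_⟩
  exact hiso w

/-- The stabiliser of a non-degenerate subspace of dimension less than half is maximal. -/
theorem maximal_of_lt (hQ : Cfsg.Geo.IsNondegenerateQuadraticForm Q) (hn : 7 < Fintype.card ι)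
    {W : Submodule F (ι → F)} (hW0 : W ≠ ⊥) (hW : Cfsg.Geo.IsNondegenerateOn B W)
    (hle : 2 * Module.finrank F W < Fintype.card ι)
    (h26 : Module.finrank F W + 6 ≤ Fintype.card ι ∨ (2 : F) ≠ 0)
    (hex : ¬ (Nat.card F ≤ 3 ∧ Module.finrank F W = 2 ∧ ∃ e ∈ W, e ≠ 0 ∧ Q e = 0)) :
    Cfsg.Geo.IsMaximalIn (Cfsg.Geo.omegaGL Q)
      (Cfsg.Geo.subspaceStabilizer W ⊓ Cfsg.Geo.omegaGL Q) := by
  have hdim := finrank_add_perpQ (hQ := hQ) hW
  refine isMaximalIn_of inf_le_right ?_ fun M hHM hMK g hgM hgH => ?_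
  · obtain ⟨g, hg, hg'⟩ := exists_omega_move hQ (by omega) hW0 hW (by omega)
    exact ⟨g, hg, fun h => hg' h.1⟩
  refine omega_le_of_nondeg hQ hn hW0 hW hle.le (by omega) (h26.imp_left fun h => by omega) hex hMK
    (fun h hh hmap => ?_) (fun h h1 h2 => hHM ⟨h1, h2⟩) hgM fun h => hgH ⟨h, hMK hgM⟩
  have h1 := finrank_le_of_map hmap
  omega

theorem plus_of_singular {W : Submodule F (ι → F)} (hQ : Cfsg.Geo.IsNondegenerateQuadraticForm Q)
    (hd : Module.finrank F W = 2) {e : ι → F} (he : e ∈ W) (he0 : e ≠ 0) (heQ : Q e = 0) :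
    Cfsg.Geo.IsPlusTypeOn Q W := by
  refine ⟨Submodule.span F {e}, (Submodule.span_singleton_le_iff_mem _ _).mpr he, fun w hw => ?_, ?_⟩
  · obtain ⟨c, rfl⟩ := Submodule.mem_span_singleton.mp hw
    rw [hQ.smul, heQ, mul_zero]
  · rw [finrank_span_singleton he0, hd]

end Cfsg.Agent.Lib.OmegaEight23.OrthNondegMax
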