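import Cfsg.Agent.Lib.OmegaEight23.FourPlanes
import Cfsg.Agent.Lib.OmegaEight23.OrthNondegMax

/-!
Stabilisers of non-degenerate four-dimensional subspaces of an eight-dimensional space of minus
type.
-/

set_option autoImplicit false

namespace Cfsg.Agent.Lib.OmegaEight23.Four

open Matrix Cfsg.Agent.Lib.Subspaces.Transvection Cfsg.Agent.Lib.Subspaces.FormVec
  Cfsg.Agent.Lib.Subspaces.OrthForm Cfsg.Agent.Lib.Subspaces.OrthLines
  Cfsg.Agent.Lib.Subspaces.OmegaGL Cfsg.Agent.Lib.Subspaces.OrthSingular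
  Cfsg.Agent.Lib.OmegaEight23.OrthNondeg Cfsg.Agent.Lib.OmegaEight23.OrthNondegMax
  Cfsg.Agent.Lib.OmegaEight23.FourPlanes

variable {ι : Type} [Fintype ι] [DecidableEq ι] {F : Type*} [Field F] [Finite F] {Q : (ι → F) → F}
  {M : Subgroup (GL ι F)}

local notation "B" => QuadraticMap.polar Q

theorem sieg_swap (hQ : Cfsg.Geo.IsNondegenerateQuadraticForm Q) {z p : ι → F} (hz : Q z = 0)
    (hp : Q p = 0) (hzp : B z p = 0) : sieg Q z p = sieg Q (-p) z := by
  have hb := hQ.polar_bilinear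
  have hnQ : Q (-p) = 0 := by rw [← neg_one_smul F p, hQ.smul, hp, mul_zero]
  have hzn : B z (-p) = 0 := by rw [← neg_one_smul F p, hb.smul_right, hzp, mul_zero]
  refine gl_ext fun x => ?_
  rw [lsieg_mulVec hQ hz hp hzp, lsieg_mulVec hQ hnQ hz (by rw [B_comm]; exact hzn),
    ← neg_one_smul F p, hb.smul_right]
  module

/-- In a four-space with a totally singular plane every non-zero singular vector lies in one. -/
theorem ts_through (hQ : Cfsg.Geo.IsNondegenerateQuadraticForm Q) {U : Submodule F (ι → F)}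
    (hts : HasTS Q U) {a : ι → F} (ha : a ∈ U) (ha0 : a ≠ 0) (haQ : Q a = 0) :
    ∃ b ∈ U, Q b = 0 ∧ B b a = 0 ∧ b ∉ Submodule.span F {a} := by
  obtain ⟨L, hLU, hLd, hL⟩ := hts
  by_cases haL : a ∈ L
  · obtain ⟨b, hb, hba⟩ : ∃ b ∈ L, b ∉ Submodule.span F {a} := by
      by_contra hh
      push Not at hh
      have := Submodule.finrank_mono (show L ≤ Submodule.span F {a} from hh)
      rw [finrank_span_singleton ha0] at this
      omega
    exact ⟨b, hLU hb, hL b hb, ts_polar hL hb haL, hba⟩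
  · have h1 := inf_perp_ge (hQ := hQ) L (Submodule.span F {a})
    rw [finrank_span_singleton ha0, hLd] at h1
    obtain ⟨b, ⟨hbL, hba⟩, hb0⟩ := Submodule.exists_mem_ne_zero_of_ne_bot
      (p := L ⊓ perpQ hQ (Submodule.span F {a})) (fun h => by rw [h, finrank_bot] at h1; omega)
    refine ⟨b, hLU hbL, hL b hbL, hba a (Submodule.mem_span_singleton_self a), fun hm => ?_⟩
    obtain ⟨c, rfl⟩ := Submodule.mem_span_singleton.mp hm
    rcases eq_or_ne c 0 with rfl | hc
    · exact hb0 (zero_smul _ _)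
    · refine haL ?_
      have := L.smul_mem c⁻¹ hbL
      rwa [smul_smul, inv_mul_cancel₀ hc, one_smul] at this

/-- A singular vector orthogonal to `V` and outside it gives every value of `Q` on the orthogonal
of `V`. -/
theorem value_of_singular (hQ : Cfsg.Geo.IsNondegenerateQuadraticForm Q) {U V : Submodule F (ι → F)}
    (hU : Cfsg.Geo.IsNondegenerateOn B U) (hVU : V ≤ U) {e : ι → F} (he : e ∈ U) (heQ : Q e = 0)
    (heV : ∀ s ∈ V, B e s = 0) (henV : e ∉ V) (c : F) :
    ∃ y ∈ U, (∀ s ∈ V, B y s = 0) ∧ Q y = c := by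
  have hb := hQ.polar_bilinear
  obtain ⟨f, hf, hfV, hfe⟩ := dual_in hQ hU hVU he henV
  refine ⟨f + (c - Q f) • e, U.add_mem hf (U.smul_mem _ he), fun s hs => ?_, ?_⟩
  · rw [hb.add_left, hb.smul_left, hfV s hs, heV s hs, mul_zero, add_zero]
  · rw [Q_add_smul hQ, heQ, hfe]; ring

/-- Two singular vectors of `U` with non-zero product have a common singular pivot in `U`. -/
theorem exists_pivot_four (hQ : Cfsg.Geo.IsNondegenerateQuadraticForm Q)
    {U : Submodule F (ι → F)} (hU : Cfsg.Geo.IsNondegenerateOn B U) (hts : HasTS Q U)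
    {a x : ι → F} (ha : a ∈ U) (hx : x ∈ U) (haQ : Q a = 0) (hxQ : Q x = 0) (hne : B a x ≠ 0) :
    ∃ p ∈ U, Q p = 0 ∧ B a p = 1 ∧ B x p = 1 := by
  have hb := hQ.polar_bilinear
  have ha0 : a ≠ 0 := fun h => hne (by rw [h, form_zero_left (bil hQ)])
  obtain ⟨b, hbU, hbQ, hba, hbn⟩ := ts_through hQ hts ha ha0 haQ
  set e := b + (-(B b x / B a x)) • a with he
  have heU : e ∈ U := U.add_mem hbU (U.smul_mem _ ha)
  have heQ : Q e = 0 := by rw [he, Q_add_smul hQ, hbQ, haQ, hba]; ring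
  have hea : B e a = 0 := by
    rw [he, hb.add_left, hb.smul_left, hba, B_self hQ, haQ]; ring
  have hex : B e x = 0 := by
    rw [he, hb.add_left, hb.smul_left, neg_mul, div_mul_cancel₀ _ hne, add_neg_cancel]
  have hperp : ∀ s ∈ Submodule.span F {a, x}, B e s = 0 := by
    intro s hs
    obtain ⟨c, d, rfl⟩ := Submodule.mem_span_pair.mp hs
    rw [hb.add_right, hb.smul_right, hb.smul_right, hea, hex]; ring
  have hen : e ∉ Submodule.span F {a, x} := fun hm => by
    obtain ⟨c, d, hcd⟩ := Submodule.mem_span_pair.mp hm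
    have h1 := hperp a (Submodule.subset_span (by simp))
    rw [← hcd, hb.add_left, hb.smul_left, hb.smul_left, B_self hQ, haQ, B_comm x a] at h1
    have hd : d = 0 := (mul_eq_zero.mp (show d * B a x = 0 by linear_combination h1)).resolve_right hne
    rw [hd, zero_smul, add_zero] at hcd
    refine hbn (Submodule.mem_span_singleton.mpr ⟨c + B b x / B a x, ?_⟩)
    rw [add_smul, hcd, he]
    module
  set t := (B a x)⁻¹ • (a + x) with ht
  obtain ⟨y, hy, hys, hyQ⟩ := value_of_singular hQ hU (Submodule.span_le.mpr (by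
      intro z hz
      rcases hz with rfl | rfl <;> assumption) : Submodule.span F {a, x} ≤ U) heU heQ hperp hen
    (-Q t)
  obtain ⟨hya, hyx⟩ := mem_perp_pair (hQ := hQ) hys
  refine ⟨t + y, U.add_mem (U.smul_mem _ (U.add_mem ha hx)) hy, ?_, ?_, ?_⟩
  · rw [Q_add (Q := Q), hyQ, ht, hb.smul_left, hb.add_left, B_comm a y, B_comm x y, hya, hyx]
    ring
  · rw [hb.add_right, ht, hb.smul_right, hb.add_right, B_self hQ, haQ, mul_zero, zero_add,
      B_comm a y, hya, add_zero, inv_mul_cancel₀ hne]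
  · rw [hb.add_right, ht, hb.smul_right, hb.add_right, B_self hQ, hxQ, mul_zero, add_zero,
      B_comm x y, hyx, add_zero, B_comm x a, inv_mul_cancel₀ hne]

/-- A plane `P` of `U` with a vector `pU` and a singular `a ⊥ P`: a Siegel element along `b` moves
the line above `P` and yields a Siegel element at `a`. -/
theorem root_of_perp (hQ : Cfsg.Geo.IsNondegenerateQuadraticForm Q)
    {U W : Submodule F (ι → F)} (hU : Cfsg.Geo.IsNondegenerateOn B U)
    (horth : ∀ w ∈ W, ∀ u ∈ U, B w u = 0)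
    (hsU : ∀ u ∈ U, Q u = 0 → ∀ w ∈ U, B w u = 0 → sieg Q u w ∈ M)
    {L : Submodule F (ι → F)} (hL : ∀ x ∈ L, Q x = 0) (hLd : Module.finrank F L = 2)
    (hLM : ∀ x ∈ L, ∀ y ∈ L, sieg Q x y ∈ M) (πU : (ι → F) →ₗ[F] (ι → F))
    (hπ : ∀ x ∈ L, πU x ∈ U ∧ x - πU x ∈ W) (hinjU : ∀ x ∈ L, πU x = 0 → x = 0)
    (hinjW : ∀ x ∈ L, x - πU x = 0 → x = 0)
    {a : ι → F} (ha : a ∈ U) (ha0 : a ≠ 0) (haQ : Q a = 0) (haP : ∀ x ∈ L, B a (πU x) = 0) :
    ∃ sW ∈ W, sW ≠ 0 ∧ sieg Q a sW ∈ M := by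
  have hb := hQ.polar_bilinear
  -- a point of `L`, over `a` if possible
  obtain ⟨s, hs, hs0, hsP⟩ : ∃ s ∈ L, s ≠ 0 ∧
      ((∃ x ∈ L, πU x = a) → πU s = a) := by
    by_cases h : ∃ x ∈ L, πU x = a
    · obtain ⟨x, hx, hxa⟩ := h
      exact ⟨x, hx, fun e => ha0 (by rw [← hxa, e, map_zero]), fun _ => hxa⟩
    · obtain ⟨x, hx, hx0⟩ := Submodule.exists_mem_ne_zero_of_ne_bot (p := L)
        (fun e => by rw [e, finrank_bot] at hLd; omega)
      exact ⟨x, hx, hx0, fun h' => absurd h' h⟩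
  obtain ⟨p, hp, hps⟩ : ∃ p ∈ L, p ∉ Submodule.span F {s} := by
    by_contra hh
    push Not at hh
    have := Submodule.finrank_mono (show L ≤ Submodule.span F {s} from hh)
    rw [finrank_span_singleton hs0] at this
    omega
  obtain ⟨hpU, hpW⟩ := hπ p hp
  obtain ⟨hsU', hsW'⟩ := hπ s hs
  have hsB : ∀ y ∈ U, ∀ x ∈ L, B x y = B (πU x) y := fun y hy x hx => by
    conv_lhs => rw [← sub_add_cancel x (πU x), hb.add_left, horth _ (hπ x hx).2 y hy, zero_add]
  have hnot : πU p ∉ Submodule.span F {a, πU s} := fun hm => by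
    obtain ⟨c, d, hcd⟩ := Submodule.mem_span_pair.mp hm
    rcases eq_or_ne c 0 with rfl | hc
    · have h0 := hinjU (p - d • s) (L.sub_mem hp (L.smul_mem _ hs)) (by
        rw [map_sub, map_smul, ← hcd, zero_smul, zero_add, sub_self])
      exact hps (Submodule.mem_span_singleton.mpr ⟨d, (sub_eq_zero.mp h0).symm⟩)
    · have hm' : ∃ x ∈ L, πU x = a := ⟨c⁻¹ • (p - d • s),
        L.smul_mem _ (L.sub_mem hp (L.smul_mem _ hs)), by
          rw [map_smul, map_sub, map_smul, ← hcd, add_sub_cancel_right, smul_smul,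
            inv_mul_cancel₀ hc, one_smul]⟩
      have hsa := hsP hm'
      rw [hsa, ← add_smul] at hcd
      have h0 := hinjU (p - (c + d) • s) (L.sub_mem hp (L.smul_mem _ hs)) (by
        rw [map_sub, map_smul, hsa, hcd, sub_self])
      exact hps (Submodule.mem_span_singleton.mpr ⟨c + d, (sub_eq_zero.mp h0).symm⟩)
  obtain ⟨b, hbU, hbV, hbp⟩ := dual_in hQ hU (Submodule.span_le.mpr (by
    intro z hz
    rcases hz with rfl | rfl <;> assumption) : Submodule.span F {a, πU s} ≤ U) hpU hnot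
  obtain ⟨hba, hbs⟩ := mem_perp_pair (hQ := hQ) hbV
  have hsa : B s a = 0 := by rw [hsB a ha s hs, B_comm, haP s hs]
  have hsb : B s b = 0 := by rw [hsB b hbU s hs, B_comm, hbs]
  have hpa : B p a = 0 := by rw [hsB a ha p hp, B_comm, haP p hp]
  have hpb : B p b = 1 := by rw [hsB b hbU p hp, B_comm, hbp]
  have hps' : B p s = 0 := ts_polar hL hp hs
  have hh := fun x => sieg_isometry hQ haQ hba x
  have hm := hsU a ha haQ b hbU hba
  have h1 := M.mul_mem (M.mul_mem hm (hLM s hs p hp)) (M.inv_mem hm)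
  rw [conj_sieg hQ hh (hL s hs) hps', sieg_mulVec hQ haQ hba, sieg_mulVec hQ haQ hba, hsa, hsb,
    hpa, hpb] at h1
  simp only [mul_zero, sub_zero, neg_zero, zero_smul, add_zero] at h1
  have hps1 : B (p + (-1 : F) • a) s = 0 := by
    rw [hb.add_left, hb.smul_left, hps', B_comm a s, hsa]; ring
  have has : B ((-1 : F) • a) s = 0 := by rw [hb.smul_left, B_comm a s, hsa, mul_zero]
  rw [sieg_add_right hQ (hL s hs) hps' has] at h1
  have h2 : sieg Q s ((-1 : F) • a) ∈ M := by
    simpa using M.mul_mem (M.inv_mem (hLM s hs p hp)) h1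
  rw [sieg_swap hQ (hL s hs) (by rw [hQ.smul, haQ, mul_zero]) (by rw [B_comm]; exact has),
    neg_one_smul, neg_neg] at h2
  have hwa : B (s - πU s) a = 0 := horth _ hsW' a ha
  have hua : B (πU s) a = 0 := by rw [B_comm, haP s hs]
  rw [show sieg Q a s = sieg Q a ((s - πU s) + πU s) by rw [sub_add_cancel],
    sieg_add_right hQ haQ hwa hua] at h2
  exact ⟨s - πU s, hsW', fun e => hs0 (hinjW s hs e),
    by simpa using M.mul_mem h2 (M.inv_mem (hsU a ha haQ (πU s) hsU' hua))⟩

/-- An overgroup in `Ω` of the stabiliser of a four-space `W` without a totally singular plane,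
whose orthogonal has one, is that stabiliser or contains `Ω`. -/
theorem omega_le_of_four (hQ : Cfsg.Geo.IsNondegenerateQuadraticForm Q) (hn : Fintype.card ι = 8)
    {W : Submodule F (ι → F)} (hW : Cfsg.Geo.IsNondegenerateOn B W) (hWd : Module.finrank F W = 4)
    (hWts : ¬ HasTS Q W) (hUts : HasTS Q (perpQ hQ W)) (hMS : M ≤ Cfsg.Geo.omegaGL Q)
    (hP : ∀ g : GL ι F, g ∈ Cfsg.Geo.subspaceStabilizer W → g ∈ Cfsg.Geo.omegaGL Q → g ∈ M)
    {g : GL ι F} (hgM : g ∈ M) (hg : g ∉ Cfsg.Geo.subspaceStabilizer W) :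
    Cfsg.Geo.omegaGL Q ≤ M := by
  classical
  have hb := hQ.polar_bilinear
  have hn5 : 5 ≤ Fintype.card ι := by omega
  have hdim := finrank_add_perpQ (hQ := hQ) hW
  set U := perpQ hQ W with hUdef
  have hUn : Cfsg.Geo.IsNondegenerateOn B U := perpQ_nondeg hW
  have hUd : Module.finrank F U = 4 := by omega
  have horth : ∀ w ∈ W, ∀ u ∈ U, B w u = 0 ∧ B u w = 0 :=
    fun w hw u hu => ⟨by rw [B_comm]; exact hu w hw, hu w hw⟩
  have hiso : ∀ h ∈ M, ∀ x, Q ((h : Matrix ι ι F) *ᵥ x) = Q x :=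
    fun h hh => omega_isometry hQ (hMS hh)
  have hWU : ∀ x, x ∈ W → x ∈ U → x = 0 := fun x hx hx' => by
    by_contra hx0
    obtain ⟨-, s, hs, hxs⟩ := hW x hx hx0
    exact hxs (hx' s hs)
  -- Siegel elements inside one of the two summands
  have hsU : ∀ u ∈ U, Q u = 0 → ∀ w ∈ U, B w u = 0 → sieg Q u w ∈ M := by
    intro u hu huQ w hw hwu
    refine hP _ (mem_subspaceStabilizer_iff.mpr fun x hx => ?_) (sieg_mem_omega hQ hn5 huQ hwu)
    rw [sieg_mulVec hQ huQ hwu, (horth x hx u hu).1, (horth x hx w hw).1, mul_zero, sub_zero,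
      neg_zero, zero_smul, zero_smul, add_zero, add_zero]
    exact hx
  have hsW : ∀ u ∈ W, Q u = 0 → ∀ w ∈ W, B w u = 0 → sieg Q u w ∈ M := by
    intro u hu huQ w hw hwu
    refine hP _ (mem_subspaceStabilizer_iff.mpr fun x hx => ?_) (sieg_mem_omega hQ hn5 huQ hwu)
    rw [sieg_mulVec hQ huQ hwu]
    exact W.add_mem (W.add_mem hx (W.smul_mem _ hw)) (W.smul_mem _ hu)
  -- a singular vector of `W` with a Siegel element along `U` gives one the other way round
  have hfromW : ∀ s ∈ W, s ≠ 0 → Q s = 0 → ∀ u ∈ U, u ≠ 0 → sieg Q s u ∈ M →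
      ∃ a ∈ U, a ≠ 0 ∧ Q a = 0 ∧ ∃ w ∈ W, w ≠ 0 ∧ sieg Q a w ∈ M := by
    intro s hs hs0 hsQ u hu hu0 hm
    have hfin : ∀ v ∈ U, v ≠ 0 → Q v = 0 → sieg Q s v ∈ M →
        ∃ a ∈ U, a ≠ 0 ∧ Q a = 0 ∧ ∃ w ∈ W, w ≠ 0 ∧ sieg Q a w ∈ M := by
      intro v hv hv0 hvQ hv'
      rw [sieg_swap hQ hsQ hvQ (horth s hs v hv).1] at hv'
      exact ⟨-v, U.neg_mem hv, neg_ne_zero.mpr hv0,
        by rw [← neg_one_smul F v, hQ.smul, hvQ, mul_zero], s, hs, hs0, hv'⟩
    by_cases huQ : Q u = 0
    · exact hfin u hu hu0 huQ hm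
    have h1 := inf_perp_ge (hQ := hQ) U (Submodule.span F {u})
    rw [finrank_span_singleton hu0, hUd] at h1
    obtain ⟨e, ⟨he, heu⟩, he0, heQ⟩ := exists_singular_in hQ
      (S := U ⊓ perpQ hQ (Submodule.span F {u})) (by omega)
    have hue : B u e = 0 := by rw [B_comm]; exact heu u (Submodule.mem_span_singleton_self u)
    obtain ⟨x, hx, hxe', hxu⟩ := dual_in hQ hUn
      ((Submodule.span_singleton_le_iff_mem _ _).mpr he) hu (fun hmem => huQ (by
        obtain ⟨c, hc⟩ := Submodule.mem_span_singleton.mp hmem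
        rw [← hc, hQ.smul, heQ, mul_zero]))
    have hxe : B x e = 0 := hxe' e (Submodule.mem_span_singleton_self e)
    have hh := fun y => sieg_isometry hQ heQ hxe y
    have hM := hsU e he heQ x hx hxe
    have h2 := M.mul_mem (M.mul_mem hM hm) (M.inv_mem hM)
    rw [conj_sieg hQ hh hsQ (horth s hs u hu).2, sieg_mulVec hQ heQ hxe, sieg_mulVec hQ heQ hxe,
      (horth s hs e he).1, (horth s hs x hx).1, hue, B_comm u x, hxu] at h2
    simp only [mul_zero, sub_zero, neg_zero, zero_smul, add_zero] at h2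
    rw [sieg_add_right hQ hsQ (horth s hs u hu).2
      (horth s hs _ (U.smul_mem _ he)).2] at h2
    refine hfin ((-1 : F) • e) (U.smul_mem _ he) (smul_ne_zero (neg_ne_zero.mpr one_ne_zero) he0)
      (by rw [hQ.smul, heQ, mul_zero]) ?_
    simpa using M.mul_mem (M.inv_mem hm) h2
  -- the projection on `U`
  obtain ⟨πU, hπ⟩ : ∃ πU : (ι → F) →ₗ[F] (ι → F), ∀ x, πU x ∈ U ∧ x - πU x ∈ W := by
    have hc : IsCompl U W := by
      refine ⟨Submodule.disjoint_def.mpr fun x hx hx' => hWU x hx' hx, ?_⟩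
      rw [codisjoint_iff, eq_top_iff]
      intro x _
      obtain ⟨w, hw, hxw⟩ := exists_split (hQ := hQ) hW x
      exact Submodule.mem_sup.mpr ⟨x - w, hxw, w, hw, sub_add_cancel x w⟩
    refine ⟨U.projection W hc, fun x => ⟨Submodule.projection_apply_mem hc x, ?_⟩⟩
    have := Submodule.projection_apply_mem hc.symm x
    rwa [show x - U.projection W hc x = W.projection U hc.symm x from by
      rw [eq_comm, eq_sub_iff_add_eq]
      exact (add_comm _ _).trans (Submodule.projection_add_projection_eq_self hc x)]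
  -- a singular vector of `U` with a Siegel element along `W`
  obtain ⟨a, ha, ha0, haQ, w0, hw0, hw00, hw0M⟩ : ∃ a ∈ U, a ≠ 0 ∧ Q a = 0 ∧
      ∃ w ∈ W, w ≠ 0 ∧ sieg Q a w ∈ M := by
    obtain ⟨L0, hL0U, hL0d, hL0, hL0g⟩ : ∃ L : Submodule F (ι → F), L ≤ U ∧
        Module.finrank F L = 2 ∧ (∀ x ∈ L, Q x = 0) ∧
        ∃ x ∈ L, (g : Matrix ι ι F) *ᵥ x ∉ U := by
      by_contra hno
      push Not at hno
      apply hg
      have hsing : ∀ u ∈ U, Q u = 0 → (g : Matrix ι ι F) *ᵥ u ∈ U := by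
        intro u hu huQ
        rcases eq_or_ne u 0 with rfl | hu0
        · rw [mulVec_zero]; exact U.zero_mem
        obtain ⟨b, hbU, hbQ, hbu, hbn⟩ := ts_through hQ hUts hu hu0 huQ
        exact hno (Submodule.span F {b, u}) (Submodule.span_le.mpr (by
          intro z hz
          rcases hz with rfl | rfl <;> assumption)) (finrank_pair hu0 hbn)
          (ts_pair hQ hbQ huQ hbu) u (Submodule.subset_span (by simp))
      have hgU : g ∈ Cfsg.Geo.subspaceStabilizer U := by
        refine mem_subspaceStabilizer_iff.mpr fun u hu => ?_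
        have hle : Submodule.span F {v : ι → F | v ∈ U ∧ Q v = 0} ≤
            U.comap (Matrix.mulVecLin (g : Matrix ι ι F)) :=
          Submodule.span_le.mpr fun v hv => hsing v hv.1 hv.2
        exact hle (span_singular_in hQ hUn (by omega) u hu)
      exact ((stab_perp_eq (hQ := hQ) W).le ⟨hgU, hMS hgM⟩).1
    set L := L0.map (Matrix.mulVecLin (g : Matrix ι ι F)) with hLdef
    have hLd : Module.finrank F L = 2 :=
      (Submodule.equivMapOfInjective _ (fun p q h => gl_mulVec_injective g h) _).finrank_eq.symm.trans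
        hL0d
    have hL : ∀ x ∈ L, Q x = 0 := by
      rintro _ ⟨v, hv, rfl⟩
      exact (hiso g hgM v).trans (hL0 v hv)
    have hLM : ∀ x ∈ L, ∀ y ∈ L, sieg Q x y ∈ M := by
      rintro _ ⟨v, hv, rfl⟩ _ ⟨v', hv', rfl⟩
      have hvv := ts_polar hL0 hv' hv
      show sieg Q ((g : Matrix ι ι F) *ᵥ v) ((g : Matrix ι ι F) *ᵥ v') ∈ M
      rw [← conj_sieg hQ (hiso g hgM) (hL0 v hv) hvv]
      exact M.mul_mem (M.mul_mem hgM (hsU v (hL0U hv) (hL0 v hv) v' (hL0U hv') hvv))
        (M.inv_mem hgM)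
    -- compatibility of the form with the projection
    have hBd : ∀ x ∈ L, ∀ y ∈ L, B (πU x) (πU y) + B (x - πU x) (y - πU y) = 0 := by
      intro x hx y hy
      have h := ts_polar hL hx hy
      rw [← sub_add_cancel x (πU x), ← sub_add_cancel y (πU y), hb.add_left, hb.add_right,
        hb.add_right, (horth _ (hπ x).2 _ (hπ y).1).1, (horth _ (hπ y).2 _ (hπ x).1).2] at h
      linear_combination h
    have hQd : ∀ x ∈ L, Q (x - πU x) + Q (πU x) = 0 := by
      intro x hx
      have h := hL x hx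
      rw [← sub_add_cancel x (πU x), Q_add (Q := Q), (horth _ (hπ x).2 _ (hπ x).1).1] at h
      linear_combination h
    obtain ⟨x1, hx1, hx10⟩ : ∃ x ∈ L, x - πU x ≠ 0 := by
      obtain ⟨x, hx, hxU⟩ := hL0g
      refine ⟨_, ⟨x, hx, rfl⟩, fun h => hxU ?_⟩
      show Matrix.mulVecLin (g : Matrix ι ι F) x ∈ U
      rw [sub_eq_zero.mp h]
      exact (hπ _).1
    by_cases hinjW : ∀ x ∈ L, x - πU x = 0 → x = 0
    swap
    · -- a point of the line in `U`
      push Not at hinjW
      obtain ⟨p, hp, hpW, hp0⟩ := hinjW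
      have hpU : p ∈ U := by rw [sub_eq_zero.mp hpW]; exact (hπ p).1
      refine ⟨p, hpU, hp0, hL p hp, x1 - πU x1, (hπ x1).2, hx10, ?_⟩
      have h1 := hLM p hp x1 hx1
      have hwp : B (x1 - πU x1) p = 0 := (horth _ (hπ x1).2 p hpU).1
      have hup : B (πU x1) p = 0 := by
        have := ts_polar hL hx1 hp
        rw [← sub_add_cancel x1 (πU x1), hb.add_left, hwp, zero_add] at this
        exact this
      rw [show sieg Q p x1 = sieg Q p ((x1 - πU x1) + πU x1) by rw [sub_add_cancel],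
        sieg_add_right hQ (hL p hp) hwp hup] at h1
      simpa using M.mul_mem h1 (M.inv_mem (hsU p hpU (hL p hp) _ (hπ x1).1 hup))
    obtain ⟨x2, hx2, hx20⟩ : ∃ x ∈ L, πU x ≠ 0 := by
      by_contra h
      push Not at h
      refine hWts ⟨L, fun x hx => ?_, hLd, hL⟩
      have := (hπ x).2
      rwa [h x hx, sub_zero] at this
    by_cases hinjU : ∀ x ∈ L, πU x = 0 → x = 0
    swap
    · -- a point of the line in `W`
      push Not at hinjU
      obtain ⟨s, hs, hsU0, hs0⟩ := hinjU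
      have hsWm : s ∈ W := by
        have := (hπ s).2
        rwa [hsU0, sub_zero] at this
      refine hfromW s hsWm hs0 (hL s hs) (πU x2) (hπ x2).1 hx20 ?_
      have h1 := hLM s hs x2 hx2
      have hus : B (πU x2) s = 0 := (horth s hsWm _ (hπ x2).1).2
      have hws : B (x2 - πU x2) s = 0 := by
        rw [form_sub_left (bil hQ), ts_polar hL hx2 hs, hus, sub_zero]
      rw [show sieg Q s x2 = sieg Q s ((x2 - πU x2) + πU x2) by rw [sub_add_cancel],
        sieg_add_right hQ (hL s hs) hws hus] at h1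
      simpa using M.mul_mem (M.inv_mem (hsW s hsWm (hL s hs) _ (hπ x2).2 hws)) h1
    let πW : (ι → F) →ₗ[F] (ι → F) := LinearMap.id - πU
    have hπW : ∀ x, πW x = x - πU x := fun x => rfl
    set S := U ⊓ perpQ hQ (L.map πU) with hSdef
    set S' := W ⊓ perpQ hQ (L.map πW) with hS'def
    by_cases hS : Aniso Q S
    swap
    · simp only [Aniso, not_forall] at hS
      obtain ⟨a, ⟨haU, haP⟩, haQ, ha0⟩ := hS
      obtain ⟨w, hw, hw0, hwM⟩ := root_of_perp hQ hUn (fun w hw u hu => (horth w hw u hu).1) hsU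
        hL hLd hLM πU (fun x _ => hπ x) hinjU hinjW haU ha0 haQ
        (fun x hx => haP _ ⟨x, hx, rfl⟩)
      exact ⟨a, haU, ha0, haQ, w, hw, hw0, hwM⟩
    by_cases hS' : Aniso Q S'
    swap
    · simp only [Aniso, not_forall] at hS'
      obtain ⟨a, ⟨haW, haP⟩, haQ, ha0⟩ := hS'
      obtain ⟨u, hu, hu0, huM⟩ := root_of_perp hQ hW (fun u hu w hw => (horth w hw u hu).2) hsW
        hL hLd hLM πW (fun x _ => ⟨(hπ x).2, by rw [hπW, sub_sub_cancel]; exact (hπ x).1⟩)
        (fun x hx h => hinjW x hx h)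
        (fun x hx h => hinjU x hx (by rwa [hπW, sub_sub_cancel] at h)) haW ha0 haQ
        (fun x hx => haP _ ⟨x, hx, rfl⟩)
      exact hfromW a haW ha0 haQ u hu hu0 huM
    exfalso
    have hmapd : ∀ (f : (ι → F) →ₗ[F] (ι → F)), (∀ x ∈ L, f x = 0 → x = 0) →
        Module.finrank F (L.map f) = 2 := by
      intro f hf
      have hinj : Function.Injective (f.domRestrict L) := by
        rw [← LinearMap.ker_eq_bot, eq_bot_iff]
        intro x hx
        exact Subtype.ext (hf x x.2 hx)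
      rw [← hLd, ← LinearMap.finrank_range_of_inj hinj, LinearMap.range_domRestrict]
    have hPd := hmapd πU hinjU
    have hP'd := hmapd πW (fun x hx h => hinjW x hx h)
    have hSd : 2 ≤ Module.finrank F S := by
      have := inf_perp_ge (hQ := hQ) U (L.map πU)
      rw [hSdef]
      omega
    have hS'd : 2 ≤ Module.finrank F S' := by
      have := inf_perp_ge (hQ := hQ) W (L.map πW)
      rw [hS'def]
      omega
    have hPU : L.map πU ≤ U := by rintro _ ⟨x, -, rfl⟩; exact (hπ x).1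
    have hP'W : L.map πW ≤ W := by rintro _ ⟨x, -, rfl⟩; exact (hπ x).2
    -- `L.map πU` is anisotropic
    have hPS : L.map πU ⊔ S = U := by
      refine Submodule.eq_of_le_of_finrank_le (sup_le hPU inf_le_left) ?_
      have h := Submodule.finrank_sup_add_finrank_inf_eq (L.map πU) S
      have hinf : L.map πU ⊓ S = ⊥ := by
        rw [eq_bot_iff]
        rintro r ⟨hr, hr'⟩
        rw [Submodule.mem_bot]
        by_contra hr0
        obtain ⟨s, hs, hrs⟩ := aniso_partner hQ hS hSd hr' hr0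
        exact hrs (by rw [B_comm]; exact hs.2 r hr)
      rw [hinf, finrank_bot] at h
      omega
    have hPan : Aniso Q (L.map πU) := by
      intro r hr hrQ
      by_contra hr0
      obtain ⟨b, hbU, hbQ, hbr, hbn⟩ := ts_through hQ hUts (hPU hr) hr0 hrQ
      obtain ⟨bP, hbP, bS, hbS, rfl⟩ := Submodule.mem_sup.mp (hPS.ge hbU)
      have hbPr : B bP r = 0 := by
        rw [hb.add_left, hbS.2 r hr, add_zero] at hbr
        exact hbr
      by_cases hbPm : bP ∈ Submodule.span F {r}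
      · obtain ⟨c, rfl⟩ := Submodule.mem_span_singleton.mp hbPm
        have hbS0 : bS = 0 := hS bS hbS (by
          rw [Q_add (Q := Q), hQ.smul, hrQ, hb.smul_left, B_comm r bS, hbS.2 r hr] at hbQ
          linear_combination hbQ)
        exact hbn (by rw [hbS0, add_zero]; exact hbPm)
      · have hspan : Submodule.span F {bP, r} = L.map πU := Submodule.eq_of_le_of_finrank_le
          (Submodule.span_le.mpr (by rintro z (rfl | rfl) <;> assumption))
          (by rw [hPd, finrank_pair hr0 hbPm])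
        have hrS : r ∈ S := ⟨hPU hr, fun z hz => by
          rw [← hspan] at hz
          obtain ⟨c, d, rfl⟩ := Submodule.mem_span_pair.mp hz
          rw [hb.add_right, hb.smul_right, hb.smul_right, B_comm r bP, hbPr, B_self hQ, hrQ]
          ring⟩
        exact hr0 (hS r hrS hrQ)
    have hP'an : Aniso Q (L.map πW) := by
      rintro _ ⟨x, hx, rfl⟩ h0
      have h := hQd x hx
      rw [← hπW, h0, zero_add] at h
      have := hinjU x hx (hPan _ ⟨x, hx, rfl⟩ h)
      rw [this, map_zero]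
    obtain ⟨T, hT, hTd, hTts⟩ := ts_of_aniso_planes hQ hP'an hS' (by omega) hS'd
      (fun x hx y hy => by rw [B_comm]; exact hy.2 x hx)
    exact hWts ⟨T, hT.trans (sup_le hP'W inf_le_left), hTd, hTts⟩
  -- conjugation inside `U`
  have hconn : ∀ u ∈ U, ∀ x ∈ U, Q u = 0 → Q x = 0 → u ≠ 0 → x ≠ 0 →
      ∀ w ∈ W, sieg Q u w ∈ M → sieg Q x w ∈ M := by
    have near : ∀ u ∈ U, ∀ x ∈ U, Q u = 0 → Q x = 0 → B u x ≠ 0 →
        ∀ w ∈ W, sieg Q u w ∈ M → sieg Q x w ∈ M := by
      intro u hu x hx huQ hxQ hne w hw h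
      obtain ⟨p, hp, hpQ, hup, hxp⟩ := exists_pivot_four hQ hUn hUts hu hx huQ hxQ hne
      have hw' : B (x - u) p = 0 := by rw [form_sub_left (bil hQ), hxp, hup, sub_self]
      have hgm := hsU p hp hpQ _ (U.sub_mem hx hu) hw'
      have hh := fun y => sieg_isometry hQ hpQ hw' y
      have h1 := M.mul_mem (M.mul_mem hgm h) (M.inv_mem hgm)
      rw [conj_sieg hQ hh huQ (horth w hw u hu).1, move_eq hQ hpQ huQ hxQ hup hxp,
        sieg_mulVec hQ hpQ hw', (horth w hw p hp).1, (horth w hw _ (U.sub_mem hx hu)).1] at h1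
      simpa using h1
    intro u hu x hx huQ hxQ hu0 hx0 w hw h
    by_cases hne : B u x = 0
    swap
    · exact near u hu x hx huQ hxQ hne w hw h
    obtain ⟨⟨y1, hy1, hy1u⟩, -⟩ := hUn u hu hu0
    obtain ⟨⟨y2, hy2, hy2x⟩, -⟩ := hUn x hx hx0
    obtain ⟨y, hy, hyu, hyx⟩ : ∃ y ∈ U, B y u ≠ 0 ∧ B y x ≠ 0 := by
      by_cases h1 : B y1 x ≠ 0
      · exact ⟨y1, hy1, hy1u, h1⟩
      by_cases h2 : B y2 u ≠ 0
      · exact ⟨y2, hy2, h2, hy2x⟩
      push Not at h1 h2
      exact ⟨y1 + y2, U.add_mem hy1 hy2, by rw [hb.add_left, h2, add_zero]; exact hy1u,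
        by rw [hb.add_left, h1, zero_add]; exact hy2x⟩
    set m := y + (-(Q y / B y u)) • u with hm
    have hmQ : Q m = 0 := by
      rw [hm, Q_add_smul hQ, huQ, neg_mul, div_mul_cancel₀ _ hyu]; ring
    have hmU : m ∈ U := U.add_mem hy (U.smul_mem _ hu)
    have hum : B u m ≠ 0 := by
      rw [hm, hb.add_right, hb.smul_right, B_self hQ, huQ, mul_zero, mul_zero, add_zero, B_comm]
      exact hyu
    have hmx : B m x ≠ 0 := by
      rw [hm, hb.add_left, hb.smul_left, hne, mul_zero, add_zero]; exact hyx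
    exact near m hmU x hx hmQ hxQ hmx w hw (near u hu m hmU huQ hmQ hum w hw h)
  -- the subspace of vectors of `W` giving Siegel elements at `a`
  let A : Submodule F (ι → F) :=
    { carrier := {w | w ∈ W ∧ sieg Q a w ∈ M}
      add_mem' := by
        rintro v w ⟨hv, hv'⟩ ⟨hw, hw'⟩
        refine ⟨W.add_mem hv hw, ?_⟩
        rw [sieg_add_right hQ haQ (horth v hv a ha).1 (horth w hw a ha).1]
        exact M.mul_mem hv' hw'
      zero_mem' := ⟨W.zero_mem, hsU a ha haQ 0 U.zero_mem (form_zero_left (bil hQ) a)⟩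
      smul_mem' := by
        rintro c w ⟨hw, hw'⟩
        refine ⟨W.smul_mem c hw, ?_⟩
        rcases eq_or_ne c 0 with rfl | hc
        · rw [zero_smul]; exact hsU a ha haQ 0 U.zero_mem (form_zero_left (bil hQ) a)
        have h1 := hconn a ha (c • a) (U.smul_mem c ha) haQ (by rw [hQ.smul, haQ, mul_zero]) ha0
          (smul_ne_zero hc ha0) w hw hw'
        have heq : sieg Q (c • a) w = sieg Q a (c • w) := gl_ext fun x => by
          rw [sieg_mulVec hQ (by rw [hQ.smul, haQ, mul_zero])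
              (by rw [hb.smul_right, (horth w hw a ha).1, mul_zero]),
            sieg_mulVec hQ haQ (by rw [hb.smul_left, (horth w hw a ha).1, mul_zero]), hQ.smul,
            hb.smul_right, hb.smul_right]
          module
        rwa [heq] at h1 }
  have hA : A = W := by
    refine eq_of_invariant hQ hW (fun w hw => hw.1) (fun h => hw00 ?_) ?_ ?_ (fun h => ?_)
    · have : w0 ∈ A := ⟨hw0, hw0M⟩
      rwa [h, Submodule.mem_bot] at this
    · intro x hx hxQ w hwA
      obtain ⟨hw, hw'⟩ := hwA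
      obtain ⟨b, hbU, hbQ, hba, hbn⟩ := ts_through hQ hUts ha ha0 haQ
      obtain ⟨y, hy, hys, hyQ⟩ := value_of_singular hQ hUn
        ((Submodule.span_singleton_le_iff_mem _ _).mpr ha) hbU hbQ (fun s hs => by
          obtain ⟨c, rfl⟩ := Submodule.mem_span_singleton.mp hs
          rw [hb.smul_right, hba, mul_zero]) hbn (Q x)
      have hya : B y a = 0 := hys a (Submodule.mem_span_singleton_self a)
      obtain ⟨r, hrΩ, hr⟩ := exists_refl_pair hQ hn5 hxQ hyQ (horth x hx y hy).1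
      have hrM : r ∈ M := hP r (mem_subspaceStabilizer_iff.mpr fun z hz => by
        rw [hr, (horth z hz y hy).1, mul_zero, neg_zero, zero_smul, add_zero]
        exact W.add_mem hz (W.smul_mem _ hx)) hrΩ
      have hra : (r : Matrix ι ι F) *ᵥ a = a := by
        rw [hr, (horth x hx a ha).2, B_comm a y, hya]; simp
      have hrw : (r : Matrix ι ι F) *ᵥ w = w + (-((Q x)⁻¹ * B w x)) • x := by
        rw [hr, (horth w hw y hy).1]; simp
      have h1 := M.mul_mem (M.mul_mem hrM hw') (M.inv_mem hrM)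
      rw [conj_sieg hQ (hiso r hrM) haQ (horth w hw a ha).1, hra, hrw] at h1
      have hA1 : w + (-((Q x)⁻¹ * B w x)) • x ∈ A := ⟨W.add_mem hw (W.smul_mem _ hx), h1⟩
      have := A.sub_mem (⟨hw, hw'⟩ : w ∈ A) hA1
      simpa [neg_smul] using this
    · intro e he w hw heQ hwe v hvA
      obtain ⟨hv, hv'⟩ := hvA
      have hm := hsW e he heQ w hw hwe
      have hh := fun y => sieg_isometry hQ heQ hwe y
      have h1 := M.mul_mem (M.mul_mem hm hv') (M.inv_mem hm)
      rw [conj_sieg hQ hh haQ (horth v hv a ha).1, sieg_mulVec hQ heQ hwe,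
        sieg_mulVec hQ heQ hwe, (horth e he a ha).2, (horth w hw a ha).2, mul_zero, sub_zero,
        neg_zero, zero_smul, zero_smul, add_zero, add_zero] at h1
      have hA1 : v + B v e • w + (-(B v w) - Q w * B v e) • e ∈ A :=
        ⟨W.add_mem (W.add_mem hv (W.smul_mem _ hw)) (W.smul_mem _ he), h1⟩
      have := A.sub_mem hA1 (⟨hv, hv'⟩ : v ∈ A)
      rwa [show v + B v e • w + (-(B v w) - Q w * B v e) • e - v =
        B v e • w + (-(B v w) - Q w * B v e) • e by abel] at this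
    · omega
  -- every singular vector of `U` is a full centre
  have hFU : ∀ u ∈ U, Q u = 0 → u ≠ 0 → Full Q M u := by
    intro u hu huQ hu0
    refine ⟨huQ, fun w hw => ?_⟩
    obtain ⟨wW, hwW, hwU⟩ := exists_split (hQ := hQ) hW w
    have h1 : B wW u = 0 := (horth wW hwW u hu).1
    have h2 : B (w - wW) u = 0 := by rw [form_sub_left (bil hQ), hw, h1, sub_zero]
    rw [← add_sub_cancel wW w, sieg_add_right hQ huQ h1 h2]
    exact M.mul_mem (hconn a ha u hu haQ huQ ha0 hu0 wW hwW (hA.ge hwW).2) (hsU u hu huQ _ hwU h2)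
  -- singular vectors with a component in `U`
  have hF1 : ∀ z, Q z = 0 → ∀ zU ∈ U, z - zU ∈ W → zU ≠ 0 → Full Q M z := by
    intro z hz zU hzU hzW hzU0
    obtain ⟨p, hp, hpQ, hzp⟩ : ∃ p ∈ U, Q p = 0 ∧ B zU p = 1 := by
      obtain ⟨-, t, ht, hzt⟩ := hUn zU hzU hzU0
      obtain ⟨v, ⟨hv, hvQ⟩, hvz⟩ : ∃ v, (v ∈ U ∧ Q v = 0) ∧ B zU v ≠ 0 := by
        by_contra hh
        push Not at hh
        refine hzt ?_
        have hle : Submodule.span F {v : ι → F | v ∈ U ∧ Q v = 0} ≤
            perpQ hQ (Submodule.span F {zU}) := Submodule.span_le.mpr fun v hv w hw => by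
          obtain ⟨c, rfl⟩ := Submodule.mem_span_singleton.mp hw
          rw [hb.smul_right, B_comm, hh v hv, mul_zero]
        rw [B_comm]
        exact hle (span_singular_in hQ hUn (by omega) t ht) zU (Submodule.mem_span_singleton_self _)
      exact ⟨(B zU v)⁻¹ • v, U.smul_mem _ hv, by rw [hQ.smul, hvQ, mul_zero],
        by rw [hb.smul_right, inv_mul_cancel₀ hvz]⟩
    have hp0 : p ≠ 0 := fun h => one_ne_zero (by rw [← hzp, h, zero_right hQ])
    obtain ⟨f, hf, -, hfp⟩ := dual_in hQ hUn (bot_le : (⊥ : Submodule F (ι → F)) ≤ U) hp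
      (by simpa using hp0)
    have hxQ : Q (f + (-Q f) • p) = 0 := by rw [Q_add_smul hQ, hpQ, hfp]; ring
    have hxp : B (f + (-Q f) • p) p = 1 := by
      rw [hb.add_left, hb.smul_left, hfp, B_self hQ, hpQ]; ring
    have hzp' : B z p = 1 := by
      rw [← sub_add_cancel z zU, hb.add_left, (horth _ hzW p hp).1, hzp, zero_add]
    exact full_move hQ (hFU p hp hpQ hp0) (hFU _ (U.add_mem hf (U.smul_mem _ hp)) hxQ
      (fun h => one_ne_zero (by rw [← hxp, h, form_zero_left (bil hQ)]))) hz hxp hzp'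
  refine omega_le_of_full hQ hn5 fun z hz => ?_
  obtain ⟨zW, hzW, hzU⟩ := exists_split (hQ := hQ) hW z
  by_cases h : z - zW = 0
  swap
  · exact hF1 z hz _ hzU (by rwa [sub_sub_cancel]) h
  rw [sub_eq_zero] at h
  subst h
  rcases eq_or_ne z 0 with rfl | hz0
  · refine ⟨Q_zero hQ, fun w hw => ?_⟩
    have h1 : sieg Q (0 : ι → F) w = 1 := gl_ext fun x => by
      rw [sieg_mulVec hQ (Q_zero hQ) hw, zero_right hQ, Units.val_one, one_mulVec]; simp
    rw [h1]; exact M.one_mem
  obtain ⟨y, hy, hy0⟩ := Submodule.exists_mem_ne_zero_of_ne_bot (p := U)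
    (fun h => by rw [h, finrank_bot] at hUd; omega)
  have key : ∀ p : ι → F, p ∉ Submodule.span F {y} →
      ∃ b, Full Q M b ∧ B b p = 1 ∧ B b y = 1 := by
    intro p hp
    obtain ⟨b, hbQ, hbs, hbp⟩ := exists_singular_any hQ ![y - p] (z := p) (fun hm => by
      rw [Matrix.range_cons, Matrix.range_empty, Set.union_empty,
        Submodule.mem_span_singleton] at hm
      obtain ⟨c, hc⟩ := hm
      rcases eq_or_ne (1 + c) 0 with e | e
      · refine hy0 ?_
        rw [show c = -1 by linear_combination e, neg_one_smul, neg_sub] at hc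
        simpa using hc
      · exact hp (Submodule.mem_span_singleton.mpr ⟨(1 + c)⁻¹ * c, by
          rw [← smul_smul, show c • y = (1 + c) • p by linear_combination (norm := module) hc,
            smul_smul, inv_mul_cancel₀ e, one_smul]⟩)) (by omega)
    have hby : B b y = 1 := by
      have := hbs 0
      rw [Matrix.cons_val_fin_one, sub_right hQ, hbp, sub_eq_zero] at this
      exact this
    obtain ⟨bW, hbW, hbU⟩ := exists_split (hQ := hQ) hW b
    refine ⟨b, hF1 b hbQ _ hbU (by rwa [sub_sub_cancel]) (fun h0 => ?_), hbp, hby⟩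
    rw [sub_eq_zero.mp h0, (horth bW hbW y hy).1] at hby
    exact zero_ne_one hby
  obtain ⟨b, hbF, hbz, hby⟩ := key z (fun hm => by
    obtain ⟨c, hc⟩ := Submodule.mem_span_singleton.mp hm
    refine hz0 ?_
    by_contra hne
    obtain ⟨-, x', hx', hzx⟩ := hW z hzW hne
    exact hzx (by rw [← hc, hb.smul_left, (horth x' hx' y hy).2, mul_zero]))
  obtain ⟨x, hxF, hxb, -⟩ := key b (fun hm => by
    obtain ⟨c, hc⟩ := Submodule.mem_span_singleton.mp hm
    rw [← hc, hb.smul_left, (horth z hzW y hy).2, mul_zero] at hbz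
    exact zero_ne_one hbz)
  exact full_move hQ hbF hxF hz hxb (by rw [B_comm, hbz])

theorem maximal_of_ts (hQ : Cfsg.Geo.IsNondegenerateQuadraticForm Q) (hn : Fintype.card ι = 8)
    {W : Submodule F (ι → F)} (hW : Cfsg.Geo.IsNondegenerateOn B W) (hWd : Module.finrank F W = 4)
    (hWts : ¬ HasTS Q W) (hUts : HasTS Q (perpQ hQ W)) :
    Cfsg.Geo.IsMaximalIn (Cfsg.Geo.omegaGL Q)
      (Cfsg.Geo.subspaceStabilizer W ⊓ Cfsg.Geo.omegaGL Q) := by
  have hdim := finrank_add_perpQ (hQ := hQ) hW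
  refine isMaximalIn_of inf_le_right ?_ fun M hHM hMK g hgM hgH => ?_
  · obtain ⟨g, hg, hg'⟩ := exists_omega_move hQ (by omega)
      (fun h => by rw [h, finrank_bot] at hWd; omega) hW (by omega)
    exact ⟨g, hg, fun h => hg' h.1⟩
  exact omega_le_of_four hQ hn hW hWd hWts hUts hMK (fun h h1 h2 => hHM ⟨h1, h2⟩) hgM
    fun h => hgH ⟨h, hMK hgM⟩

/-- The stabiliser of a non-degenerate four-space is maximal in `Ω₈⁻(q)`. -/
theorem maximal (hQ : Cfsg.Geo.IsNondegenerateQuadraticForm Q) (hn : Fintype.card ι = 8)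
    (hminus : ¬ Cfsg.Geo.IsPlusTypeOn Q ⊤) {W : Submodule F (ι → F)}
    (hW : Cfsg.Geo.IsNondegenerateOn B W) (hWd : Module.finrank F W = 4) :
    Cfsg.Geo.IsMaximalIn (Cfsg.Geo.omegaGL Q)
      (Cfsg.Geo.subspaceStabilizer W ⊓ Cfsg.Geo.omegaGL Q) := by
  have hdim := finrank_add_perpQ (hQ := hQ) hW
  rcases ts_dichotomy hQ hn hminus hW hWd with ⟨h1, h2⟩ | ⟨h1, h2⟩
  · rw [← stab_perp_eq (hQ := hQ) W]
    exact maximal_of_ts hQ hn (perpQ_nondeg hW) (by omega) h2 (by rwa [perpQ_perpQ])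
  · exact maximal_of_ts hQ hn hW hWd h1 h2

end Cfsg.Agent.Lib.OmegaEight23.Four
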