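import Cfsg.Agent.Lib.OmegaEight23.OrthNondeg

/-!
Totally singular planes in non-degenerate four-dimensional subspaces.
-/

set_option autoImplicit false

namespace Cfsg.Agent.Lib.OmegaEight23.FourPlanes

open Matrix Cfsg.Agent.Lib.Subspaces.Transvection Cfsg.Agent.Lib.Subspaces.FormVec
  Cfsg.Agent.Lib.Subspaces.OrthForm Cfsg.Agent.Lib.Subspaces.OrthLines
  Cfsg.Agent.Lib.Subspaces.OmegaGL Cfsg.Agent.Lib.OmegaEight23.OrthNondeg

variable {ι : Type} [Fintype ι] [DecidableEq ι] {F : Type*} [Field F] [Finite F] {Q : (ι → F) → F}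

local notation "B" => QuadraticMap.polar Q

/-- `W` contains a totally singular plane. -/
def HasTS (Q : (ι → F) → F) (W : Submodule F (ι → F)) : Prop :=
  ∃ L : Submodule F (ι → F), L ≤ W ∧ Module.finrank F L = 2 ∧ ∀ x ∈ L, Q x = 0

/-- `S` contains no non-zero singular vector. -/
def Aniso (Q : (ι → F) → F) (S : Submodule F (ι → F)) : Prop :=
  ∀ x ∈ S, Q x = 0 → x = 0

theorem ts_polar {L : Submodule F (ι → F)} (hL : ∀ x ∈ L, Q x = 0) {x y : ι → F} (hx : x ∈ L)
    (hy : y ∈ L) : B x y = 0 := by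
  rw [QuadraticMap.polar, hL _ (L.add_mem hx hy), hL x hx, hL y hy]; ring

theorem ts_sup (hQ : Cfsg.Geo.IsNondegenerateQuadraticForm Q) {L L' : Submodule F (ι → F)}
    (hL : ∀ x ∈ L, Q x = 0) (hL' : ∀ x ∈ L', Q x = 0)
    (horth : ∀ x ∈ L, ∀ y ∈ L', B x y = 0) : ∀ z ∈ L ⊔ L', Q z = 0 := by
  intro z hz
  obtain ⟨x, hx, y, hy, rfl⟩ := Submodule.mem_sup.mp hz
  rw [Q_add (Q := Q), hL x hx, hL' y hy, horth x hx y hy]; ring

theorem ts_pair (hQ : Cfsg.Geo.IsNondegenerateQuadraticForm Q) {a b : ι → F} (ha : Q a = 0)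
    (hb' : Q b = 0) (hab : B a b = 0) : ∀ z ∈ Submodule.span F {a, b}, Q z = 0 := by
  intro z hz
  obtain ⟨c, d, rfl⟩ := Submodule.mem_span_pair.mp hz
  rw [Q_add_smul hQ, hQ.smul, ha, hb', hQ.polar_bilinear.smul_left, hab]; ring

theorem finrank_pair {a b : ι → F} (hb' : b ≠ 0) (hab : a ∉ Submodule.span F {b}) :
    Module.finrank F (Submodule.span F {a, b}) = 2 := by
  have ha0 : a ≠ 0 := fun h => hab (h ▸ Submodule.zero_mem _)
  have h := Submodule.finrank_sup_add_finrank_inf_eq (Submodule.span F {a}) (Submodule.span F {b})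
  have hinf : Submodule.span F {a} ⊓ Submodule.span F {b} = ⊥ := by
    rw [eq_bot_iff]
    rintro x ⟨hx, hx'⟩
    obtain ⟨c, rfl⟩ := Submodule.mem_span_singleton.mp hx
    rcases eq_or_ne c 0 with rfl | hc
    · simp
    · refine absurd ?_ hab
      have := Submodule.smul_mem _ c⁻¹ hx'
      rwa [smul_smul, inv_mul_cancel₀ hc, one_smul] at this
  rw [hinf, finrank_bot, finrank_span_singleton ha0, finrank_span_singleton hb', ← Submodule.span_union,
    Set.singleton_union] at h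
  omega

/-- A non-zero vector of an anisotropic space of dimension at least two pairs non-trivially with
that space. -/
theorem aniso_partner (hQ : Cfsg.Geo.IsNondegenerateQuadraticForm Q) {S : Submodule F (ι → F)}
    (hS : Aniso Q S) (hd : 2 ≤ Module.finrank F S) {r : ι → F} (hr : r ∈ S) (hr0 : r ≠ 0) :
    ∃ s ∈ S, B r s ≠ 0 := by
  by_contra h
  push Not at h
  have hrQ : Q r ≠ 0 := fun e => hr0 (hS r hr e)
  have h2 : (2 : F) = 0 := by
    have := h r hr
    rw [B_self hQ] at this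
    exact (mul_eq_zero.mp this).resolve_right hrQ
  obtain ⟨v, hv, hvr⟩ : ∃ v ∈ S, v ∉ Submodule.span F {r} := by
    by_contra hh
    push Not at hh
    have := Submodule.finrank_mono (show S ≤ Submodule.span F {r} from hh)
    rw [finrank_span_singleton hr0] at this
    omega
  have : Fintype F := Fintype.ofFinite F
  have hc : ringChar F = 2 := by
    have : CharP F 2 := CharTwo.of_one_ne_zero_of_two_eq_zero one_ne_zero h2
    exact ringChar.eq F 2
  obtain ⟨a, ha⟩ := FiniteField.isSquare_of_char_two hc (-Q v / Q r)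
  have h0 := hS (v + a • r) (S.add_mem hv (S.smul_mem _ hr)) (by
    rw [Q_add_smul hQ, B_comm v r, h v hv, mul_zero, add_zero, pow_two, ← ha,
      div_mul_cancel₀ _ hrQ, add_neg_cancel])
  refine hvr ?_
  rw [eq_neg_of_add_eq_zero_left h0]
  exact Submodule.neg_mem _ (Submodule.smul_mem _ _ (Submodule.mem_span_singleton_self _))

/-- Two elements outside the image of `t ↦ t² + t` differ by an element of it. -/
theorem artin_schreier (h2 : (2 : F) = 0) {u v : F} (hu : ∀ t : F, t ^ 2 + t ≠ u)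
    (hv : ∀ t : F, t ^ 2 + t ≠ v) : ∃ t : F, t ^ 2 + t = u + v := by
  classical
  have : Fintype F := Fintype.ofFinite F
  let f : F →+ F :=
    { toFun := fun t => t ^ 2 + t
      map_zero' := by ring
      map_add' := fun x y => by linear_combination (x * y) * h2 }
  have hker : Nat.card f.ker ≤ 2 := by
    rw [Nat.card_eq_fintype_card, Fintype.card_subtype]
    refine le_trans (Finset.card_le_card (t := ({0, 1} : Finset F)) fun x hx => ?_) Finset.card_le_two
    have h : x ^ 2 + x = 0 := (Finset.mem_filter.mp hx).2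
    have h' : x * (x + 1) = 0 := by linear_combination h
    rcases mul_eq_zero.mp h' with e | e
    · simp [e]
    · simp [show x = 1 by linear_combination e - h2]
  have hidx : f.range.index ≤ 2 := by
    have h1 := AddSubgroup.index_mul_card f.range
    have h3 : Nat.card f.ker * Nat.card f.range = Nat.card F := by
      rw [← AddSubgroup.index_ker, mul_comm, AddSubgroup.index_mul_card]
    have hpos : 0 < Nat.card f.range := Nat.card_pos
    have hle : f.range.index * Nat.card f.range ≤ 2 * Nat.card f.range := by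
      rw [h1, ← h3]; exact Nat.mul_le_mul_right _ hker
    exact Nat.le_of_mul_le_mul_right hle hpos
  have hur : u ∉ f.range := fun ⟨t, ht⟩ => hu t ht
  have hvr : v ∉ f.range := fun ⟨t, ht⟩ => hv t ht
  have hidx2 : f.range.index = 2 := by
    have h0 : f.range.index ≠ 0 := AddSubgroup.index_ne_zero_of_finite
    have h1 : f.range.index ≠ 1 := fun h => hur (by
      rw [AddSubgroup.index_eq_one] at h; rw [h]; trivial)
    omega
  have := (AddSubgroup.add_mem_iff_of_index_two hidx2 (a := u) (b := v)).mpr (by tauto)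
  exact this

/-- In odd characteristic the product of two non-squares is a square. -/
theorem nonsquare_mul (h2 : (2 : F) ≠ 0) {u v : F} (hu : ¬ IsSquare u) (hv : ¬ IsSquare v) :
    ∃ t : F, t ^ 2 = u * v := by
  classical
  have : Fintype F := Fintype.ofFinite F
  have hc : ringChar F ≠ 2 := fun e => h2 (by
    have : CharP F 2 := ringChar.eq_iff.mp e
    exact_mod_cast CharP.cast_eq_zero F 2)
  have hu0 : u ≠ 0 := fun e => hu (e ▸ IsSquare.zero)
  have hv0 : v ≠ 0 := fun e => hv (e ▸ IsSquare.zero)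
  have h : quadraticChar F (u * v) = 1 := by
    rw [map_mul, quadraticChar_neg_one_iff_not_isSquare.mpr hu,
      quadraticChar_neg_one_iff_not_isSquare.mpr hv]
    norm_num
  obtain ⟨t, ht⟩ := (quadraticChar_one_iff_isSquare (mul_ne_zero hu0 hv0)).mp h
  exact ⟨t, by rw [ht, pow_two]⟩

/-- An anisotropic plane represents every value. -/
theorem aniso_value (hQ : Cfsg.Geo.IsNondegenerateQuadraticForm Q) {S : Submodule F (ι → F)}
    (hS : Aniso Q S) (hd : 2 ≤ Module.finrank F S) (c : F) : ∃ x ∈ S, Q x = c := by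
  have hb := hQ.polar_bilinear
  obtain ⟨a, ha, ha0⟩ := Submodule.exists_mem_ne_zero_of_ne_bot (p := S)
    (fun h => by rw [h, finrank_bot] at hd; omega)
  have haQ : Q a ≠ 0 := fun e => ha0 (hS a ha e)
  have : Fintype F := Fintype.ofFinite F
  by_cases h2 : (2 : F) = 0
  · have hc : ringChar F = 2 := by
      have : CharP F 2 := CharTwo.of_one_ne_zero_of_two_eq_zero one_ne_zero h2
      exact ringChar.eq F 2
    obtain ⟨t, ht⟩ := FiniteField.isSquare_of_char_two hc (c / Q a)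
    exact ⟨t • a, S.smul_mem _ ha, by rw [hQ.smul, pow_two, ← ht, div_mul_cancel₀ _ haQ]⟩
  obtain ⟨b, hb', hba, hb0⟩ : ∃ b ∈ S, B a b = 0 ∧ b ≠ 0 := by
    obtain ⟨v, hv, hva⟩ : ∃ v ∈ S, v ∉ Submodule.span F {a} := by
      by_contra hh
      push Not at hh
      have := Submodule.finrank_mono (show S ≤ Submodule.span F {a} from hh)
      rw [finrank_span_singleton ha0] at this
      omega
    have haa : B a a ≠ 0 := by rw [B_self hQ]; exact mul_ne_zero h2 haQ
    refine ⟨v + (-(B a v / B a a)) • a, S.add_mem hv (S.smul_mem _ ha), ?_, fun h => hva ?_⟩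
    · rw [hb.add_right, hb.smul_right, neg_mul, div_mul_cancel₀ _ haa, add_neg_cancel]
    · rw [eq_neg_of_add_eq_zero_left h]
      exact Submodule.neg_mem _ (Submodule.smul_mem _ _ (Submodule.mem_span_singleton_self _))
  have hbQ : Q b ≠ 0 := fun e => hb0 (hS b hb' e)
  have hc : ringChar F ≠ 2 := fun e => h2 (by
    have : CharP F 2 := ringChar.eq_iff.mp e
    exact_mod_cast CharP.cast_eq_zero F 2)
  obtain ⟨p, q, hpq⟩ : ∃ p q : F, -c + Q a * p ^ 2 + Q b * q ^ 2 = 0 := by
    open Polynomial in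
    obtain ⟨p, q, h⟩ := FiniteField.exists_root_sum_quadratic
      (f := C (Q a) * X ^ 2 + C 0 * X + C (-c)) (g := C (Q b) * X ^ 2 + C 0 * X + C 0)
      (degree_quadratic haQ) (degree_quadratic hbQ) (FiniteField.odd_card_of_char_ne_two hc)
    refine ⟨p, q, ?_⟩
    simp at h
    linear_combination h
  refine ⟨p • a + q • b, S.add_mem (S.smul_mem _ ha) (S.smul_mem _ hb'), ?_⟩
  rw [Q_add_smul hQ, hQ.smul, hb.smul_left, hba]
  linear_combination hpq

/-- Two orthogonal anisotropic planes span a space containing a totally singular plane. -/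
theorem ts_of_aniso_planes (hQ : Cfsg.Geo.IsNondegenerateQuadraticForm Q)
    {A A' : Submodule F (ι → F)} (hA : Aniso Q A) (hA' : Aniso Q A')
    (hd : 2 ≤ Module.finrank F A) (hd' : 2 ≤ Module.finrank F A')
    (horth : ∀ x ∈ A, ∀ y ∈ A', B x y = 0) : HasTS Q (A ⊔ A') := by
  have hb := hQ.polar_bilinear
  obtain ⟨a₁, ha₁, ha₁0⟩ := Submodule.exists_mem_ne_zero_of_ne_bot (p := A)
    (fun h => by rw [h, finrank_bot] at hd; omega)
  have hα : Q a₁ ≠ 0 := fun e => ha₁0 (hA a₁ ha₁ e)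
  obtain ⟨x, hx, hxQ⟩ := aniso_value hQ hA' hd' (-Q a₁)
  have hx0 : x ≠ 0 := fun e => hα (by
    rw [e, Q_zero hQ, eq_comm, neg_eq_zero] at hxQ; exact hxQ)
  have hAA : A ⊓ A' = ⊥ := by
    rw [eq_bot_iff]
    rintro r ⟨hr, hr'⟩
    rw [Submodule.mem_bot]
    by_contra hr0
    obtain ⟨s, hs, hrs⟩ := aniso_partner hQ hA hd hr hr0
    exact hrs (by rw [B_comm]; exact horth s hs r hr')
  suffices h : ∃ a₂ ∈ A, ∃ y ∈ A', a₂ ∉ Submodule.span F {a₁} ∧ Q a₂ + Q y = 0 ∧
      B a₁ a₂ + B x y = 0 by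
    obtain ⟨a₂, ha₂, y, hy, hind, hQ2, hB2⟩ := h
    have hab : a₁ + x ≠ 0 := fun e => ha₁0 (by
      have hm : a₁ ∈ A ⊓ A' := ⟨ha₁, by rw [eq_neg_of_add_eq_zero_left e]; exact A'.neg_mem hx⟩
      rwa [hAA, Submodule.mem_bot] at hm)
    refine ⟨Submodule.span F {a₂ + y, a₁ + x}, Submodule.span_le.mpr ?_, finrank_pair hab ?_,
      ts_pair hQ ?_ ?_ ?_⟩
    · rintro z (rfl | rfl)
      · exact Submodule.add_mem_sup ha₂ hy
      · exact Submodule.add_mem_sup ha₁ hx
    · intro hm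
      obtain ⟨c, hc⟩ := Submodule.mem_span_singleton.mp hm
      have hm' : a₂ - c • a₁ ∈ A ⊓ A' := ⟨A.sub_mem ha₂ (A.smul_mem _ ha₁), by
        rw [show a₂ - c • a₁ = c • x - y by linear_combination (norm := module) -hc]
        exact A'.sub_mem (A'.smul_mem _ hx) hy⟩
      rw [hAA, Submodule.mem_bot, sub_eq_zero] at hm'
      exact hind (Submodule.mem_span_singleton.mpr ⟨c, hm'.symm⟩)
    · rw [Q_add (Q := Q), horth a₂ ha₂ y hy, add_zero]; exact hQ2
    · rw [Q_add (Q := Q), horth a₁ ha₁ x hx, hxQ]; ring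
    · rw [hb.add_left, hb.add_right, hb.add_right, horth a₂ ha₂ x hx, B_comm y a₁,
        horth a₁ ha₁ y hy, B_comm a₂ a₁, B_comm y x]
      linear_combination hB2
  obtain ⟨s, hs, hsB⟩ := aniso_partner hQ hA hd ha₁ ha₁0
  obtain ⟨s', hs', hsB'⟩ := aniso_partner hQ hA' hd' hx hx0
  by_cases h2 : (2 : F) = 0
  · set a₂ := (B a₁ s)⁻¹ • s with ha₂def
    have ha₂ : a₂ ∈ A := A.smul_mem _ hs
    have hB1 : B a₁ a₂ = 1 := by rw [hb.smul_right, inv_mul_cancel₀ hsB]
    set y := (B x s')⁻¹ • s' with hydef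
    have hy : y ∈ A' := A'.smul_mem _ hs'
    have hB1' : B x y = 1 := by rw [hb.smul_right, inv_mul_cancel₀ hsB']
    have hind : a₂ ∉ Submodule.span F {a₁} := fun hm => by
      obtain ⟨c, hc⟩ := Submodule.mem_span_singleton.mp hm
      rw [← hc, hb.smul_right, B_self hQ, h2, zero_mul, mul_zero] at hB1
      exact zero_ne_one hB1
    have hu : ∀ t : F, t ^ 2 + t ≠ Q a₁ * Q a₂ := fun t ht => by
      obtain ⟨τ, rfl⟩ : ∃ τ, τ * Q a₁ = t := ⟨t / Q a₁, div_mul_cancel₀ _ hα⟩
      have h0 := hA (a₂ + τ • a₁) (A.add_mem ha₂ (A.smul_mem _ ha₁)) (by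
        rw [Q_add_smul hQ, B_comm a₂ a₁, hB1]
        refine mul_left_cancel₀ hα ?_
        linear_combination ht + Q a₁ * Q a₂ * h2)
      refine hind ?_
      rw [eq_neg_of_add_eq_zero_left h0]
      exact Submodule.neg_mem _ (Submodule.smul_mem _ _ (Submodule.mem_span_singleton_self _))
    have hv : ∀ t : F, t ^ 2 + t ≠ Q a₁ * Q y := fun t ht => by
      obtain ⟨τ, rfl⟩ : ∃ τ, τ * Q a₁ = t := ⟨t / Q a₁, div_mul_cancel₀ _ hα⟩
      have h0 := hA' (y + τ • x) (A'.add_mem hy (A'.smul_mem _ hx)) (by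
        rw [Q_add_smul hQ, B_comm y x, hB1', hxQ]
        refine mul_left_cancel₀ hα ?_
        linear_combination ht + (Q a₁ * Q y - (τ * Q a₁) ^ 2) * h2)
      refine absurd hB1' ?_
      rw [eq_neg_of_add_eq_zero_left h0, ← neg_smul, hb.smul_right, B_self hQ, h2, zero_mul,
        mul_zero]
      exact zero_ne_one
    obtain ⟨t, ht⟩ := artin_schreier h2 hu hv
    obtain ⟨τ, rfl⟩ : ∃ τ, τ * Q a₁ = t := ⟨t / Q a₁, div_mul_cancel₀ _ hα⟩
    refine ⟨a₂, ha₂, y + τ • x, A'.add_mem hy (A'.smul_mem _ hx), hind, ?_, ?_⟩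
    · rw [Q_add_smul hQ, B_comm y x, hB1', hxQ]
      refine mul_left_cancel₀ hα ?_
      linear_combination ht + (Q a₁ * (Q a₂ + Q y) - (τ * Q a₁) ^ 2) * h2
    · have e : B x (τ • x) = 0 := by rw [hb.smul_right, B_self hQ, h2]; ring
      rw [hb.add_right, e]
      linear_combination hB1 + hB1' + h2
  · have haa : B a₁ a₁ ≠ 0 := by rw [B_self hQ]; exact mul_ne_zero h2 hα
    have hxx : B x x ≠ 0 := by
      rw [B_self hQ, hxQ]; exact mul_ne_zero h2 (neg_ne_zero.mpr hα)
    have hexist : ∀ (S : Submodule F (ι → F)) (r : ι → F), Aniso Q S → 2 ≤ Module.finrank F S →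
        r ∈ S → B r r ≠ 0 → ∃ v ∈ S, B r v = 0 ∧ v ∉ Submodule.span F {r} ∧
          ¬ IsSquare (-(Q r * Q v)) := by
      intro S r hS hSd hr hrr
      have hr0 : r ≠ 0 := fun e => hrr (by rw [e, zero_right hQ])
      obtain ⟨u, hu, hur⟩ : ∃ u ∈ S, u ∉ Submodule.span F {r} := by
        by_contra hh
        push Not at hh
        have := Submodule.finrank_mono (show S ≤ Submodule.span F {r} from hh)
        rw [finrank_span_singleton hr0] at this
        omega
      set v := u + (-(B r u / B r r)) • r with hv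
      have hvS : v ∈ S := S.add_mem hu (S.smul_mem _ hr)
      have hrv : B r v = 0 := by
        rw [hv, hb.add_right, hb.smul_right, neg_mul, div_mul_cancel₀ _ hrr, add_neg_cancel]
      have hvn : v ∉ Submodule.span F {r} := fun hm => hur (by
        have := Submodule.sub_mem _ hm (Submodule.smul_mem _ (-(B r u / B r r))
          (Submodule.mem_span_singleton_self r))
        rwa [hv, add_sub_cancel_right] at this)
      refine ⟨v, hvS, hrv, hvn, ?_⟩
      rintro ⟨t, ht⟩
      have hrQ : Q r ≠ 0 := fun e => hr0 (hS r hr e)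
      obtain ⟨τ, rfl⟩ : ∃ τ, τ * Q r = t := ⟨t / Q r, div_mul_cancel₀ _ hrQ⟩
      have h0 := hS (v + τ • r) (S.add_mem hvS (S.smul_mem _ hr)) (by
        rw [Q_add_smul hQ, B_comm v r, hrv]
        refine mul_left_cancel₀ hrQ ?_
        linear_combination -ht)
      refine hvn ?_
      rw [eq_neg_of_add_eq_zero_left h0]
      exact Submodule.neg_mem _ (Submodule.smul_mem _ _ (Submodule.mem_span_singleton_self _))
    obtain ⟨a₂, ha₂, hB1, hind, hsq⟩ := hexist A a₁ hA hd ha₁ haa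
    obtain ⟨y, hy, hB1', hyn, hsq'⟩ := hexist A' x hA' hd' hx hxx
    rw [hxQ] at hsq'
    obtain ⟨t, ht⟩ := nonsquare_mul h2 hsq hsq'
    have hy0 : y ≠ 0 := fun e => hyn (e ▸ Submodule.zero_mem _)
    have hyQ : Q y ≠ 0 := fun e => hy0 (hA' y hy e)
    have hαy : Q a₁ * Q y ≠ 0 := mul_ne_zero hα hyQ
    obtain ⟨τ, rfl⟩ : ∃ τ, τ * (Q a₁ * Q y) = t := ⟨_, div_mul_cancel₀ t hαy⟩
    refine ⟨a₂, ha₂, τ • y, A'.smul_mem _ hy, hind, ?_, ?_⟩
    · rw [hQ.smul]
      refine mul_left_cancel₀ (mul_ne_zero hα hαy) ?_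
      linear_combination ht
    · rw [hB1, hb.smul_right, hB1']; ring

/-- A non-degenerate four-dimensional space without a totally singular plane contains a singular
vector orthogonal to an anisotropic plane. -/
theorem four_decomp (hQ : Cfsg.Geo.IsNondegenerateQuadraticForm Q) {W : Submodule F (ι → F)}
    (hW : Cfsg.Geo.IsNondegenerateOn B W) (hd : Module.finrank F W = 4) (hts : ¬ HasTS Q W) :
    ∃ e ∈ W, e ≠ 0 ∧ Q e = 0 ∧ ∃ A ≤ W, Aniso Q A ∧ 2 ≤ Module.finrank F A ∧
      ∀ x ∈ A, B e x = 0 := by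
  have hb := hQ.polar_bilinear
  obtain ⟨e, he, he0, heQ⟩ := exists_singular_in hQ (S := W) (by omega)
  obtain ⟨f, hf, -, hfe⟩ := dual_in hQ hW (bot_le : (⊥ : Submodule F (ι → F)) ≤ W) he
    (by simpa using he0)
  refine ⟨e, he, he0, heQ, W ⊓ perpQ hQ (Submodule.span F {e, f}), inf_le_left, ?_, ?_, ?_⟩
  · rintro a ⟨ha, ha'⟩ haQ
    obtain ⟨hae, haf⟩ := mem_perp_pair (hQ := hQ) ha'
    by_contra ha0
    refine hts ⟨Submodule.span F {a, e}, Submodule.span_le.mpr ?_, finrank_pair he0 fun hm => ?_,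
      ts_pair hQ haQ heQ hae⟩
    · rintro z (rfl | rfl) <;> assumption
    · obtain ⟨c, hc⟩ := Submodule.mem_span_singleton.mp hm
      rw [← hc, hb.smul_left, B_comm e f, hfe, mul_one] at haf
      exact ha0 (by rw [← hc, haf, zero_smul])
  · have h1 := inf_perp_ge (hQ := hQ) W (Submodule.span F {e, f})
    have h2 := finrank_pair_le e f
    omega
  · rintro x ⟨-, hx⟩
    rw [B_comm]
    exact (mem_perp_pair (hQ := hQ) hx).1

/-- In a space of minus type exactly one of a non-degenerate four-space and its orthogonal contains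
a totally singular plane. -/
theorem ts_dichotomy (hQ : Cfsg.Geo.IsNondegenerateQuadraticForm Q) (hn : Fintype.card ι = 8)
    (hminus : ¬ Cfsg.Geo.IsPlusTypeOn Q ⊤) {W : Submodule F (ι → F)}
    (hW : Cfsg.Geo.IsNondegenerateOn B W) (hd : Module.finrank F W = 4) :
    (HasTS Q W ∧ ¬ HasTS Q (perpQ hQ W)) ∨ (¬ HasTS Q W ∧ HasTS Q (perpQ hQ W)) := by
  have hb := hQ.polar_bilinear
  have hdim := finrank_add_perpQ (hQ := hQ) hW
  set U := perpQ hQ W with hU
  have hUn : Cfsg.Geo.IsNondegenerateOn B U := perpQ_nondeg hW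
  have horth : ∀ w ∈ W, ∀ u ∈ U, B w u = 0 := fun w hw u hu => by rw [B_comm]; exact hu w hw
  have hWU : W ⊓ U = ⊥ := by
    rw [eq_bot_iff]
    rintro r ⟨hr, hr'⟩
    rw [Submodule.mem_bot]
    by_contra hr0
    obtain ⟨-, s, hs, hrs⟩ := hW r hr hr0
    exact hrs (hr' s hs)
  have hplus : ∀ L L' : Submodule F (ι → F), (∀ x ∈ L, Q x = 0) → (∀ x ∈ L', Q x = 0) →
      (∀ x ∈ L, ∀ y ∈ L', B x y = 0) → L ⊓ L' = ⊥ → Module.finrank F L = 2 →
      Module.finrank F L' = 2 → False := by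
    intro L L' hL hL' ho hi hd2 hd2'
    refine hminus ⟨L ⊔ L', le_top, ts_sup hQ hL hL' ho, ?_⟩
    have h := Submodule.finrank_sup_add_finrank_inf_eq L L'
    rw [hi, finrank_bot] at h
    rw [finrank_top, Module.finrank_fintype_fun_eq_card, hn]
    omega
  by_cases h1 : HasTS Q W
  · refine Or.inl ⟨h1, ?_⟩
    rintro ⟨L', hL'U, hL'd, hL'⟩
    obtain ⟨L, hLW, hLd, hL⟩ := h1
    exact hplus L L' hL hL' (fun x hx y hy => horth x (hLW hx) y (hL'U hy))
      (le_bot_iff.mp (hWU ▸ inf_le_inf hLW hL'U)) hLd hL'd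
  refine Or.inr ⟨h1, ?_⟩
  by_contra h2
  obtain ⟨e, he, he0, heQ, A, hAW, hA, hAd, hAe⟩ := four_decomp hQ hW hd h1
  obtain ⟨e', he', he'0, he'Q, A', hA'U, hA', hA'd, hA'e⟩ := four_decomp hQ hUn (by omega) h2
  obtain ⟨S, hS, hSd, hSts⟩ := ts_of_aniso_planes hQ hA hA' hAd hA'd
    (fun x hx y hy => horth x (hAW hx) y (hA'U hy))
  have hee : e ∉ Submodule.span F {e'} := fun hm => he0 (by
    have : e ∈ W ⊓ U := ⟨he, (Submodule.span_singleton_le_iff_mem _ _).mpr he' hm⟩
    rwa [hWU, Submodule.mem_bot] at this)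
  refine hplus (Submodule.span F {e, e'}) S (ts_pair hQ heQ he'Q (horth e he e' he')) hSts ?_ ?_
    (finrank_pair he'0 hee) hSd
  · intro x hx y hy
    obtain ⟨c, d, rfl⟩ := Submodule.mem_span_pair.mp hx
    obtain ⟨a, ha, a', ha', rfl⟩ := Submodule.mem_sup.mp (hS hy)
    rw [hb.add_left, hb.smul_left, hb.smul_left, hb.add_right, hb.add_right, hAe a ha,
      hA'e a' ha', horth e he a' (hA'U ha'), B_comm e' a, horth a (hAW ha) e' he']
    ring
  · rw [eq_bot_iff]
    rintro x ⟨hx, hxS⟩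
    obtain ⟨c, d, rfl⟩ := Submodule.mem_span_pair.mp hx
    obtain ⟨a, ha, a', ha', haa⟩ := Submodule.mem_sup.mp (hS hxS)
    have hm : c • e - a ∈ W ⊓ U := ⟨W.sub_mem (W.smul_mem _ he) (hAW ha), by
      rw [show c • e - a = a' - d • e' by linear_combination (norm := module) -haa]
      exact U.sub_mem (hA'U ha') (U.smul_mem _ he')⟩
    rw [hWU, Submodule.mem_bot, sub_eq_zero] at hm
    have hce : c • e = 0 := hA _ (hm ▸ ha) (by rw [hQ.smul, heQ, mul_zero])
    rw [hce] at hm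
    rw [← hm, zero_add, hce, zero_add] at haa
    have hde : d • e' = 0 := hA' _ (by rw [← haa]; exact ha') (by rw [hQ.smul, he'Q, mul_zero])
    rw [Submodule.mem_bot, hce, hde, add_zero]

end Cfsg.Agent.Lib.OmegaEight23.FourPlanes
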