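import Cfsg.Agent.Lib.OmegaEight23.Four
import Cfsg.Agent.Lib.OmegaEight23.VecEven
import Cfsg.Agent.Lib.OmegaEight23.ExtTwo.OfMatrix
import Cfsg.Agent.Lib.OmegaEight23.Subfield.OrthSubfield
import Cfsg.Agent.Lib.TableRelax.OrthSingular

/-! Rows of the table of geometric maximal subgroups of `Ω₈⁻(q)`. -/

set_option autoImplicit false

namespace Cfsg.Agent.Lib.OmegaEight23.Rows

open Module Matrix Cfsg.Agent.Lib.Subspaces.Transvection Cfsg.Agent.Lib.Subspaces.OrthForm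
  Cfsg.Agent.Lib.Subspaces.OmegaGL Cfsg.Agent.Lib.OmegaEight23.OrthNondeg
  Cfsg.Agent.Lib.OmegaEight23.OrthNondegMax

variable {F : Type*} [Field F] [Fintype F] {Q : (Fin 8 → F) → F}

theorem two_ne (hodd : Odd (Fintype.card F)) : (2 : F) ≠ 0 :=
  Cfsg.Agent.Lib.Subspaces.OrthForm.two_ne_zero_of_odd hodd

theorem two_eq (hodd : ¬ Odd (Fintype.card F)) : (2 : F) = 0 := by
  by_contra h
  exact hodd (Nat.odd_iff.mpr (FiniteField.odd_card_of_char_ne_two fun hc => h (by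
    have : CharP F 2 := hc ▸ ringChar.charP F
    exact CharTwo.two_eq_zero)))

/-- Totally singular subspaces. -/
theorem ts_maximal (hQ : Cfsg.Geo.IsNondegenerateQuadraticForm Q)
    (hminus : ¬ Cfsg.Geo.IsPlusTypeOn Q ⊤)
    (W : Submodule F (Fin 8 → F)) (hW0 : W ≠ ⊥) (hW : Cfsg.Geo.IsTotallySingularQuad Q W) :
    Cfsg.Geo.IsMaximalIn (Cfsg.Geo.omegaGL Q) (Cfsg.Geo.subspaceStabilizer W ⊓ Cfsg.Geo.omegaGL Q) := by
  have hc : 6 < Fintype.card (Fin 8) := by simp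
  refine isMaximalIn_of inf_le_right ?_ fun M hHM hMK g hgM hgH => ?_
  · obtain ⟨g, hg, hg'⟩ := TableRelax.OrthSingular.exists_omega_not_stab hQ hc hW0 hW
    exact ⟨g, hg, fun h => hg' h.1⟩
  refine TableRelax.OrthSingular.omega_le_of_ts hQ hc hW0 hW ?_ hMK (fun h h1 h2 => hHM ⟨h1, h2⟩) hgM
    fun h => hgH ⟨h, hMK hgM⟩
  rw [Fintype.card_fin]
  by_cases h : 3 + 2 * Module.finrank F W ≤ 8
  · exact Or.inl h
  refine Or.inr fun r hr hrp => ?_
  by_contra hrW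
  obtain ⟨U, hU, hUd, hle⟩ := TableRelax.OrthSingular.ext_bound hQ hW hr hrp hrW
  rw [Fintype.card_fin] at hle
  refine hminus ⟨U, le_top, hU, ?_⟩
  rw [hUd, finrank_top, Module.finrank_fin_fun]
  omega

/-- Non-degenerate subspaces of odd dimension, odd characteristic. -/
theorem odd_maximal (hQ : Cfsg.Geo.IsNondegenerateQuadraticForm Q) (hodd : Odd (Fintype.card F))
    (W : Submodule F (Fin 8 → F)) (hW0 : W ≠ ⊥) (hW1 : W ≠ ⊤) (hWo : Odd (Module.finrank F W))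
    (hW : Cfsg.Geo.IsNondegenerateOn (QuadraticMap.polar Q) W) :
    Cfsg.Geo.IsMaximalIn (Cfsg.Geo.omegaGL Q) (Cfsg.Geo.subspaceStabilizer W ⊓ Cfsg.Geo.omegaGL Q) := by
  have hc : Fintype.card (Fin 8) = 8 := Fintype.card_fin 8
  have h2 := two_ne hodd
  have hdim := finrank_add_perpQ (hQ := hQ) hW
  obtain ⟨j, hj⟩ := hWo
  by_cases hle : 2 * Module.finrank F W < 8
  · exact maximal_of_lt hQ (by omega) hW0 hW (by omega) (Or.inr h2) (fun h => by omega)
  rw [← stab_perp_eq (hQ := hQ) W]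
  refine maximal_of_lt hQ (by omega) (fun h => ?_) (perpQ_nondeg hW) (by omega) (Or.inr h2)
    (fun h => by omega)
  have hlt := Submodule.finrank_lt (lt_top_iff_ne_top.mpr hW1).ne
  rw [Module.finrank_fintype_fun_eq_card] at hlt
  rw [h, finrank_bot] at hdim
  omega

/-- Non-degenerate planes. -/
theorem plane_maximal (hQ : Cfsg.Geo.IsNondegenerateQuadraticForm Q)
    (W : Submodule F (Fin 8 → F)) (hd : Module.finrank F W = 2)
    (hW : Cfsg.Geo.IsNondegenerateOn (QuadraticMap.polar Q) W)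
    (hp : Cfsg.Geo.IsPlusTypeOn Q W → 4 ≤ Fintype.card F) :
    Cfsg.Geo.IsMaximalIn (Cfsg.Geo.omegaGL Q) (Cfsg.Geo.subspaceStabilizer W ⊓ Cfsg.Geo.omegaGL Q) := by
  have hc : Fintype.card (Fin 8) = 8 := Fintype.card_fin 8
  refine maximal_of_lt hQ (by omega) (fun h => by rw [h, finrank_bot] at hd; omega) hW (by omega)
    (Or.inl (by omega)) ?_
  rintro ⟨hq, -, e, he, he0, heQ⟩
  have := hp (plus_of_singular hQ hd he he0 heQ)
  rw [Nat.card_eq_fintype_card] at hq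
  omega

end Cfsg.Agent.Lib.OmegaEight23.Rows
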